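import Cfsg.Agent.H456.LD.HN.Kill
import Cfsg.Agent.H456.LD.HN.Chi
import Cfsg.Agent.Blocks.ExtendedFMT
import Cfsg.Agent.H548.Crit
import Cfsg.Agent.S2082

/-!
# S4910: the row of the Harada–Norton group (helper456)

Degrees `16929` and `3200000`.  The invariant character of degree 16929 is a constituent of the permutation character on
the 1539000 cosets of `2.HS.2`; the 5-block of the invariant character of degree 653125 has defect 1 and contains exactly
one character of degree 3200000.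
-/

set_option autoImplicit false

open Cfsg
open Cfsg.Agent.Characters.Core

namespace Cfsg.Agent.H456.LD.HN

open Cfsg.Agent.H954.LD (Inv CopRow)

universe u

/-- **Two invariant characters of coprime degrees.** -/
theorem exists_pair : ∃ α β : IrrCharacter Cfsg.Spor.HN, (α : Cfsg.Spor.HN → ℂ) 1 = (16929 : ℕ) ∧
    (β : Cfsg.Spor.HN → ℂ) 1 = (3200000 : ℕ) ∧ Inv α ∧ Inv β := by
  obtain ⟨α, χ0, h1, h2, h3, h4, h5⟩ := Chi.main
  obtain ⟨M, hM⟩ := Cfsg.Agent.Blocks.ExistsModular.exists_isPModular (by norm_num : Nat.Prime 5)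
  have hH : Blk.Hyp M χ0 := ⟨hM, Cfsg.Agent.Blocks.Basic.charDegree_of_eq h2, h5⟩
  obtain ⟨χ, hχB, hχd, huniq⟩ := Kill.unique hH
  refine ⟨α, χ, h1, by rw [Blk.dd_eq, hχd], h3, ?_⟩
  intro b s
  have h6 : Cfsg.Agent.Blocks.ExtendedFMT.compIrr b χ0 = χ0 := Subtype.ext (funext fun x => h4 b x)
  have h7 := Cfsg.Agent.Blocks.ExtendedFMT.sameBlock_compIrr b hχB
  rw [h6] at h7
  have h8 := huniq (Cfsg.Agent.Blocks.ExtendedFMT.compIrr b χ) h7 (by
    rw [← hχd]
    show charDegree (Cfsg.Agent.Blocks.ExtendedFMT.compIrr b χ : Cfsg.Spor.HN → ℂ) = charDegree (χ : Cfsg.Spor.HN → ℂ)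
    unfold charDegree
    rw [Cfsg.Agent.Blocks.ExtendedFMT.compIrr_apply, map_one])
  rw [← Cfsg.Agent.Blocks.ExtendedFMT.compIrr_apply, h8]

end Cfsg.Agent.H456.LD.HN

namespace Cfsg.Agent.H456.LD

open Cfsg.Agent.H954.LD (Inv CopRow)

universe u

/-- invariant characters through an isomorphism -/
theorem inv_comp {S : Type u} [Group S] {G : Type*} [Group G] (e : S ≃* G) {α : IrrCharacter G} (h : Inv α) :
    Inv (⟨(α : G → ℂ) ∘ e, isIrr_comp e.toMonoidHom e.surjective α.2⟩ : IrrCharacter S) := by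
  intro b s
  have h1 := h ((e.symm.trans b).trans e) (e s)
  show (α : G → ℂ) (e (b s)) = (α : G → ℂ) (e s)
  rw [← h1]
  show _ = (α : G → ℂ) (e (b (e.symm (e s))))
  rw [e.symm_apply_apply]

/-- **The row `HN`.** -/
theorem row_HN {S : Type u} [Group S] [Finite S] [IsSimpleGroup S] (hna : ¬ IsMulCommutative S) (h : Spor.IsoHN S) :
    CopRow S := by
  obtain ⟨e⟩ := h
  obtain ⟨α, β, h1, h2, h3, h4⟩ := HN.exists_pair
  have hout : Nat.card (Out S) ≤ 2 := by
    rw [Cfsg.Agent.H548.Crit.card_out_congr e, Cfsg.Agent.S2082.result]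
  have e1 : charDegree ((α : Cfsg.Spor.HN → ℂ) ∘ e) = 16929 := by
    apply Cfsg.Agent.Blocks.Basic.charDegree_of_eq
    rw [Function.comp_apply, map_one, h1]
  have e2 : charDegree ((β : Cfsg.Spor.HN → ℂ) ∘ e) = 3200000 := by
    apply Cfsg.Agent.Blocks.Basic.charDegree_of_eq
    rw [Function.comp_apply, map_one, h2]
  refine Cfsg.Agent.H954.LD.copRow_inv hna hout
    (α := ⟨(α : Cfsg.Spor.HN → ℂ) ∘ e, isIrr_comp e.toMonoidHom e.surjective α.2⟩)
    (β := ⟨(β : Cfsg.Spor.HN → ℂ) ∘ e, isIrr_comp e.toMonoidHom e.surjective β.2⟩) ?_ ?_ ?_ (inv_comp e h3) (inv_comp e h4)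
  · show charDegree ((α : Cfsg.Spor.HN → ℂ) ∘ e) ≠ 1
    rw [e1]; norm_num
  · show charDegree ((β : Cfsg.Spor.HN → ℂ) ∘ e) ≠ 1
    rw [e2]; norm_num
  · show Nat.Coprime (charDegree ((α : Cfsg.Spor.HN → ℂ) ∘ e)) (charDegree ((β : Cfsg.Spor.HN → ℂ) ∘ e))
    rw [e1, e2]; norm_num

end Cfsg.Agent.H456.LD
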