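import Cfsg.Agent.H678.DG.Pts
import Cfsg.Agent.H618.LD.Tw

/-!
# Eigenvalues of class sums on spherical characters (helper456)

The chain `H678.DG.Sph.exists_of_kernel → … → H678.DG.Pts.deg_of_pts` with the additional conclusion `Ev`: the
eigenvalue of a conjugation-closed set `T` on the character is `∑ k_j c_j a_j` with `∑ k_j c_j = |T|`.
-/

set_option autoImplicit false

namespace Cfsg.Agent.H456.LD.OmC

open Cfsg Representation Cfsg.Agent.H618.LD.Tw Cfsg.Agent.H678.DG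
open scoped ComplexConjugate

universe u v

section ev

variable {G : Type u} [Group G] [Finite G]

/-- The eigenvalues of the conjugation-closed sets on `χ`. -/
def Ev {n : ℕ} (χ : G → ℂ) (k : Fin n → ℕ) (a : Fin n → ℂ) : Prop :=
  ∀ T : Finset G, Cl T → ∃ c : Fin n → ℕ, ∑ j, k j * c j = T.card ∧
    om T χ = ∑ j, (k j : ℂ) * ((c j : ℂ) * a j)

theorem ev_of_rep {X : Type v} [Fintype X] [MulAction G X] {V : Submodule ℂ (X → ℂ)}
    (hV : ∀ (g : G), ∀ φ ∈ V, (fun x => φ (g⁻¹ • x)) ∈ V) (χ : IrrCharacter G)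
    (hχ : (χ : G → ℂ) = (Sph.rep V hV).character) {n : ℕ} (x₀ : X) (K : Subgroup G) (hK : ∀ g ∈ K, g • x₀ = x₀)
    (cls : X → Fin n) (r : Fin n → X)
    (htr : ∀ x, ∃ g ∈ K, g • r (cls x) = x) (k : Fin n → ℕ)
    (hk : ∀ j, (Finset.univ.filter fun y => cls y = j).card = k j)
    (a : Fin n → ℂ) (ha : a (cls x₀) = 1) (hv : (fun x => a (cls x)) ∈ V) : Ev (χ : G → ℂ) k a := by
  classical
  intro T hT
  have hirr : (Sph.rep V hV).IsIrreducible :=
    Cfsg.Agent.Characters.Core.isIrreducible_of_isIrrCharacter _ (hχ ▸ χ.2)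
  have h1 := rep_sum (Sph.rep V hV) hirr hT
  rw [← hχ] at h1
  have h2 : ∑ s ∈ T, a (cls (s⁻¹ • x₀)) = om T χ := by
    have h3 := congrArg (fun f : Module.End ℂ V => ((f ⟨_, hv⟩ : V) : X → ℂ) x₀) h1
    simp only [LinearMap.sum_apply, LinearMap.smul_apply, Module.End.one_apply, Submodule.coe_sum, Submodule.coe_smul,
      Finset.sum_apply, Pi.smul_apply, smul_eq_mul, ha, mul_one] at h3
    exact h3
  let N : X → ℕ := fun x => (T.filter fun s => s⁻¹ • x₀ = x).card
  have hN : ∀ g ∈ K, ∀ x, N (g • x) = N x := by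
    intro g hg x
    symm
    refine Finset.card_bij (fun s _ => g * s * g⁻¹) ?_ ?_ ?_
    · intro s hs
      rw [Finset.mem_filter] at hs ⊢
      refine ⟨hT s hs.1 g, ?_⟩
      have h4 : g⁻¹ • x₀ = x₀ := hK g⁻¹ (K.inv_mem hg)
      rw [show (g * s * g⁻¹)⁻¹ = g * s⁻¹ * g⁻¹ by group, mul_smul, mul_smul, h4, hs.2]
    · intro s _ s' _ h
      exact mul_left_cancel (mul_right_cancel h)
    · intro s hs
      rw [Finset.mem_filter] at hs
      refine ⟨g⁻¹ * s * g, ?_, by group⟩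
      rw [Finset.mem_filter]
      have h5 := hT s hs.1 g⁻¹
      rw [inv_inv] at h5
      refine ⟨h5, ?_⟩
      rw [show (g⁻¹ * s * g)⁻¹ = g⁻¹ * s⁻¹ * g by group, mul_smul, mul_smul, hK g hg, hs.2, inv_smul_smul]
  have hN2 : ∀ x, N x = N (r (cls x)) := by
    intro x
    obtain ⟨g, hg, hx⟩ := htr x
    rw [← hN g hg (r (cls x)), hx]
  have hsum : ∀ f : X → ℂ, ∑ s ∈ T, f (s⁻¹ • x₀) = ∑ x, (N x : ℂ) * f x := by
    intro f
    rw [← Finset.sum_fiberwise_of_maps_to (t := Finset.univ) (g := fun s : G => s⁻¹ • x₀) (fun _ _ => Finset.mem_univ _)]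
    refine Finset.sum_congr rfl fun x _ => ?_
    rw [Finset.sum_congr rfl (g := fun _ => f x) (fun s hs => by rw [(Finset.mem_filter.1 hs).2]), Finset.sum_const,
      nsmul_eq_mul]
  have hcl : ∀ f : Fin n → ℂ, ∑ x, (N x : ℂ) * f (cls x) = ∑ j, (k j : ℂ) * ((N (r j) : ℂ) * f j) := by
    intro f
    rw [← Finset.sum_fiberwise_of_maps_to (t := Finset.univ) (g := cls) (fun _ _ => Finset.mem_univ _)]
    refine Finset.sum_congr rfl fun j _ => ?_
    rw [Finset.sum_congr rfl (g := fun _ => (N (r j) : ℂ) * f j) (fun x hx => by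
      rw [hN2 x, (Finset.mem_filter.1 hx).2]), Finset.sum_const, nsmul_eq_mul, hk]
  refine ⟨fun j => N (r j), ?_, ?_⟩
  · have h3 := hsum (fun _ => 1)
    rw [hcl (fun _ => 1)] at h3
    simp only [mul_one, Finset.sum_const, nsmul_eq_mul] at h3
    exact_mod_cast h3.symm
  · rw [← h2, hsum (fun x => a (cls x)), hcl a]

end ev

section graph

variable {G : Type u} [Group G] [Finite G] {X : Type v} [Fintype X] [MulAction G X] {n : ℕ}

/-- **Degrees from the collapsed matrix of an invariant kernel.** -/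
theorem exists_of_kernel [MulAction.IsPretransitive G X] (E : X → X → ℂ)
    (hE : ∀ (g : G) x y, E (g • x) (g • y) = E x y) (x₀ : X) (K : Subgroup G) (hK : ∀ g ∈ K, g • x₀ = x₀)
    (cls : X → Fin n) (r : Fin n → X) (hcls : ∀ g ∈ K, ∀ x, cls (g • x) = cls x)
    (htr : ∀ x, ∃ g ∈ K, g • r (cls x) = x) (B : Fin n → Fin n → ℂ)
    (hB : ∀ i j, ∑ y ∈ Finset.univ.filter (fun y => cls y = j), E (r i) y = B i j)
    (k : Fin n → ℕ) (hk : ∀ j, (Finset.univ.filter fun y => cls y = j).card = k j)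
    (a : Fin n → ℂ) (t : ℂ) (hBa : ∀ i, ∑ j, B i j * a j = t * a i)
    (huniq : ∀ a' : Fin n → ℂ, (∀ i, ∑ j, B i j * a' j = t * a' i) → ∀ i, a' i = a' (cls x₀) * a i)
    (ha : a (cls x₀) = 1) :
    ∃ χ : IrrCharacter G, (charDegree (χ : G → ℂ) : ℂ) * ∑ j, (k j : ℂ) * (a j * conj (a j)) =
      (Fintype.card X : ℂ) ∧ Ev (χ : G → ℂ) k a := by
  classical
  have hsum := Sph.sum_kernel E cls r B hB
  let V : Submodule ℂ (X → ℂ) :=
    { carrier := {φ | ∀ x, ∑ y, E x y * φ y = t * φ x}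
      add_mem' := by
        intro φ ψ h1 h2 x
        have h3 : ∀ y, E x y * (φ + ψ) y = E x y * φ y + E x y * ψ y := fun y => by
          rw [Pi.add_apply, mul_add]
        rw [Finset.sum_congr rfl fun y _ => h3 y, Finset.sum_add_distrib, h1 x, h2 x, Pi.add_apply]
        ring
      zero_mem' := by
        intro x
        simp
      smul_mem' := by
        intro c φ h1 x
        have h3 : ∀ y, E x y * (c • φ) y = c * (E x y * φ y) := fun y => by
          rw [Pi.smul_apply, smul_eq_mul]; ring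
        rw [Finset.sum_congr rfl fun y _ => h3 y, ← Finset.mul_sum, h1 x, Pi.smul_apply, smul_eq_mul]
        ring }
  have hVm : ∀ φ : X → ℂ, φ ∈ V ↔ ∀ x, ∑ y, E x y * φ y = t * φ x := fun _ => Iff.rfl
  have htrans : ∀ (g : G) (φ : X → ℂ) x, ∑ y, E x y * φ (g⁻¹ • y) = ∑ y, E (g⁻¹ • x) y * φ y := by
    intro g φ x
    rw [← Equiv.sum_comp (MulAction.toPerm g) fun y => E x y * φ (g⁻¹ • y)]
    refine Finset.sum_congr rfl fun y _ => ?_
    rw [MulAction.toPerm_apply, inv_smul_smul]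
    have h1 : E x (g • y) = E (g⁻¹ • x) y := by
      rw [← hE g (g⁻¹ • x) y, smul_inv_smul]
    rw [h1]
  have hVG : ∀ (g : G), ∀ φ ∈ V, (fun x => φ (g⁻¹ • x)) ∈ V := by
    intro g φ h1
    rw [hVm] at h1 ⊢
    intro x
    rw [htrans, h1]
  have he : (fun x => a (cls x)) ∈ V := by
    rw [hVm]
    intro x
    obtain ⟨g, hg, hx⟩ := htr x
    have h1 := htrans g⁻¹ (fun y => a (cls y)) (r (cls x))
    rw [inv_inv, hx] at h1
    rw [← h1]
    have h2 : ∀ y, E (r (cls x)) y * a (cls (g • y)) = E (r (cls x)) y * a (cls y) := by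
      intro y
      rw [hcls g hg]
    rw [Finset.sum_congr rfl fun y _ => h2 y, hsum, hBa]
  obtain ⟨χ, hχ, hχ2⟩ := Sph.exists_of_spherical' hVG x₀ he ha K hK (by
    intro φ hφ hK
    let a' : Fin n → ℂ := fun i => φ (r i)
    have haφ : ∀ x, φ x = a' (cls x) := by
      intro x
      obtain ⟨g, hg, hx⟩ := htr x
      show φ x = φ (r (cls x))
      rw [← hK g hg (r (cls x)), hx]
    have h2 : ∀ i, ∑ j, B i j * a' j = t * a' i := by
      intro i
      rw [← hsum a' i]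
      have h3 := (hVm φ).1 hφ (r i)
      rw [Finset.sum_congr rfl fun y _ => by rw [haφ y]] at h3
      exact h3
    refine ⟨a' (cls x₀), funext fun x => ?_⟩
    show φ x = a' (cls x₀) * a (cls x)
    rw [haφ, huniq a' h2])
  exact ⟨χ, by rw [← Sph.nrm_cls cls k hk a]; exact hχ,
    ev_of_rep hVG χ hχ2 x₀ K hK cls r htr k hk a ha he⟩

/-- The rational case. -/
theorem exists_of_kernel_rat [MulAction.IsPretransitive G X] (E : X → X → ℚ)
    (hE : ∀ (g : G) x y, E (g • x) (g • y) = E x y) (x₀ : X) (K : Subgroup G) (hK : ∀ g ∈ K, g • x₀ = x₀)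
    (cls : X → Fin n) (r : Fin n → X) (hcls : ∀ g ∈ K, ∀ x, cls (g • x) = cls x)
    (htr : ∀ x, ∃ g ∈ K, g • r (cls x) = x) (B : Fin n → Fin n → ℚ)
    (hB : ∀ i j, ∑ y ∈ Finset.univ.filter (fun y => cls y = j), E (r i) y = B i j)
    (k : Fin n → ℕ) (hk : ∀ j, (Finset.univ.filter fun y => cls y = j).card = k j) (c : Fin n) (hc : cls x₀ = c)
    (a : Fin n → ℚ) (t : ℚ) (L : Fin n → Fin n → ℚ) (d N : ℕ) (hN : Fintype.card X = N)
    (ha : a c = 1) (hBa : ∀ i, ∑ j, B i j * a j = t * a i)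
    (hL : ∀ i j, ∑ l, L i l * (B l j - if l = j then t else 0) =
      (if i = j then 1 else 0) - if j = c then a i else 0)
    (hd : (d : ℚ) * ∑ j, (k j : ℚ) * (a j * a j) = N) :
    ∃ χ : IrrCharacter G, charDegree (χ : G → ℂ) = d ∧ Ev (χ : G → ℂ) k (fun i => (a i : ℂ)) := by
  obtain ⟨χ, hχ, hEv⟩ := exists_of_kernel (fun x y => (E x y : ℂ)) (fun g x y => by rw [hE]) x₀ K hK cls r hcls htr
    (fun i j => (B i j : ℂ)) (fun i j => by rw [← hB]; push_cast; rfl) k hk (fun i => (a i : ℂ)) (t : ℂ) (by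
    intro i
    exact_mod_cast hBa i) (by
    intro a' h i
    have h1 : ∑ l, (L i l : ℂ) * (∑ j, ((B l j : ℂ) - if l = j then (t : ℂ) else 0) * a' j) = 0 := by
      refine Finset.sum_eq_zero fun l _ => ?_
      have h2 : ∑ j, ((B l j : ℂ) - if l = j then (t : ℂ) else 0) * a' j = 0 := by
        simp only [sub_mul, ite_mul, zero_mul]
        rw [Finset.sum_sub_distrib, Finset.sum_ite_eq, if_pos (Finset.mem_univ _), h l, sub_self]
      rw [h2, mul_zero]
    have h3 : ∑ l, (L i l : ℂ) * (∑ j, ((B l j : ℂ) - if l = j then (t : ℂ) else 0) * a' j) =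
        ∑ j, (∑ l, (L i l : ℂ) * ((B l j : ℂ) - if l = j then (t : ℂ) else 0)) * a' j := by
      simp only [Finset.mul_sum, Finset.sum_mul]
      rw [Finset.sum_comm]
      refine Finset.sum_congr rfl fun j _ => Finset.sum_congr rfl fun l _ => ?_
      ring
    have h4 : ∀ j, ∑ l, (L i l : ℂ) * ((B l j : ℂ) - if l = j then (t : ℂ) else 0) =
        (if i = j then (1 : ℂ) else 0) - if j = c then (a i : ℂ) else 0 := by
      intro j
      have h5 := congrArg (fun q : ℚ => (q : ℂ)) (hL i j)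
      simp only [Rat.cast_sum, Rat.cast_mul, Rat.cast_sub, apply_ite (Rat.cast : ℚ → ℂ),
        Rat.cast_zero, Rat.cast_one] at h5
      exact h5
    rw [h3, Finset.sum_congr rfl fun j _ => by rw [h4 j]] at h1
    simp only [sub_mul, ite_mul, zero_mul, one_mul] at h1
    rw [Finset.sum_sub_distrib, Finset.sum_ite_eq, Finset.sum_ite_eq', if_pos (Finset.mem_univ _),
      if_pos (Finset.mem_univ _)] at h1
    rw [hc]
    linear_combination h1) (by rw [hc, ha]; norm_num)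
  refine ⟨χ, ?_, hEv⟩
  have h1 : ∑ j, (k j : ℂ) * ((a j : ℂ) * conj (a j : ℂ)) = ((∑ j, (k j : ℚ) * (a j * a j) : ℚ) : ℂ) := by
    push_cast
    refine Finset.sum_congr rfl fun j _ => ?_
    rw [← Complex.ofReal_ratCast, Complex.conj_ofReal]
  rw [h1, hN] at hχ
  have h2 : (charDegree (χ : G → ℂ) : ℚ) * (∑ j, (k j : ℚ) * (a j * a j)) = N := by exact_mod_cast hχ
  have h3 : (∑ j, (k j : ℚ) * (a j * a j)) ≠ 0 := by
    intro h0
    rw [h0, mul_zero] at h2
    have h4 : 0 < Fintype.card X := Fintype.card_pos_iff.2 ⟨x₀⟩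
    rw [hN] at h4
    have : (N : ℚ) ≠ 0 := Nat.cast_ne_zero.2 h4.ne'
    exact this h2.symm
  have h4 : (charDegree (χ : G → ℂ) : ℚ) = d := mul_right_cancel₀ h3 (h2.trans hd.symm)
  exact_mod_cast h4

/-- The case of an invariant relation. -/
theorem exists_of_graph_rat [MulAction.IsPretransitive G X] (E : X → X → Bool)
    (hE : ∀ (g : G) x y, E (g • x) (g • y) = E x y) (x₀ : X) (K : Subgroup G) (hK : ∀ g ∈ K, g • x₀ = x₀)
    (cls : X → Fin n) (r : Fin n → X) (hcls : ∀ g ∈ K, ∀ x, cls (g • x) = cls x)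
    (htr : ∀ x, ∃ g ∈ K, g • r (cls x) = x) (B : Fin n → Fin n → ℕ)
    (hB : ∀ i j, (Finset.univ.filter fun y => E (r i) y = true ∧ cls y = j).card = B i j)
    (k : Fin n → ℕ) (hk : ∀ j, (Finset.univ.filter fun y => cls y = j).card = k j) (c : Fin n) (hc : cls x₀ = c)
    (a : Fin n → ℚ) (t : ℚ) (L : Fin n → Fin n → ℚ) (d N : ℕ) (hN : Fintype.card X = N)
    (ha : a c = 1) (hBa : ∀ i, ∑ j, (B i j : ℚ) * a j = t * a i)
    (hL : ∀ i j, ∑ l, L i l * ((B l j : ℚ) - if l = j then t else 0) =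
      (if i = j then 1 else 0) - if j = c then a i else 0)
    (hd : (d : ℚ) * ∑ j, (k j : ℚ) * (a j * a j) = N) :
    ∃ χ : IrrCharacter G, charDegree (χ : G → ℂ) = d ∧ Ev (χ : G → ℂ) k (fun i => (a i : ℂ)) := by
  classical
  refine exists_of_kernel_rat (fun x y => if E x y = true then 1 else 0) (fun g x y => by rw [hE]) x₀ K hK cls r
    hcls htr (fun i j => (B i j : ℚ)) ?_ k hk c hc a t L d N hN ha hBa hL hd
  intro i j
  rw [← hB, ← Finset.sum_filter, Finset.sum_const, nsmul_eq_mul, mul_one, Finset.filter_filter]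
  congr 2
  ext y
  simp only [Finset.mem_filter, Finset.mem_univ, true_and]
  tauto

end graph

section index

variable {G : Type u} [Group G] [Finite G] {Y : Type v} [MulAction G Y] {M n : ℕ}

/-- **Degrees from an indexed orbit.** -/
theorem deg_of_index (y : Fin M → Y) (hinj : Function.Injective y) (i₀ : Fin M)
    (hcl : ∀ g : G, ∀ i, ∃ j, g • y i = y j) (htrG : ∀ i, ∃ g : G, g • y i₀ = y i)
    (K : Subgroup G) (hK : ∀ g ∈ K, g • y i₀ = y i₀) (cls : Fin M → Fin n) (r : Fin n → Fin M)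
    (hcls : ∀ g ∈ K, ∀ i j, g • y i = y j → cls j = cls i)
    (htr : ∀ i, ∃ g ∈ K, g • y (r (cls i)) = y i)
    (E : Y → Y → Bool) (hE : ∀ (g : G) x z, E (g • x) (g • z) = E x z) (B : Fin n → Fin n → ℕ)
    (hB : ∀ i j, (Finset.univ.filter fun k : Fin M => E (y (r i)) (y k) = true ∧ cls k = j).card = B i j)
    (kk : Fin n → ℕ) (hk : ∀ j, (Finset.univ.filter fun i => cls i = j).card = kk j) (c : Fin n) (hc : cls i₀ = c)
    (a : Fin n → ℚ) (t : ℚ) (L : Fin n → Fin n → ℚ) (d : ℕ)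
    (ha : a c = 1) (hBa : ∀ i, ∑ j, (B i j : ℚ) * a j = t * a i)
    (hL : ∀ i j, ∑ l, L i l * ((B l j : ℚ) - if l = j then t else 0) =
      (if i = j then 1 else 0) - if j = c then a i else 0)
    (hd : (d : ℚ) * ∑ j, (kk j : ℚ) * (a j * a j) = M) :
    ∃ χ : IrrCharacter G, charDegree (χ : G → ℂ) = d ∧ Ev (χ : G → ℂ) kk (fun i => (a i : ℂ)) := by
  classical
  let act : MulAction G (Idx.Orb y) := Idx.orbAct y hcl
  let e := Idx.eqv y hinj
  let ft : Fintype (Idx.Orb y) := Fintype.ofEquiv _ e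
  have hsm : ∀ (g : G) (x : Idx.Orb y), (g • x).1 = g • x.1 := fun _ _ => rfl
  have he : ∀ i, (e i).1 = y i := fun _ => rfl
  have hes : ∀ x : Idx.Orb y, y (e.symm x) = x.1 := fun x => by rw [← he, e.apply_symm_apply]
  have htrans : MulAction.IsPretransitive G (Idx.Orb y) := by
    have key : ∀ x : Idx.Orb y, ∃ g : G, g • e i₀ = x := by
      intro x
      obtain ⟨g, hg⟩ := htrG (e.symm x)
      refine ⟨g, Subtype.ext ?_⟩
      rw [hsm, he, hg, hes]
    refine ⟨fun x z => ?_⟩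
    obtain ⟨g, rfl⟩ := key x
    obtain ⟨h, rfl⟩ := key z
    exact ⟨h * g⁻¹, by rw [mul_smul, inv_smul_smul]⟩
  have hcard : Fintype.card (Idx.Orb y) = M := by
    rw [Fintype.card_congr e.symm, Fintype.card_fin]
  refine exists_of_graph_rat (X := Idx.Orb y) (fun x z => E x.1 z.1) (fun g x z => hE g x.1 z.1) (e i₀) K
    (fun g hg => Subtype.ext (hK g hg)) (fun x => cls (e.symm x)) (fun i => e (r i)) ?_ ?_ B ?_ kk ?_ c ?_ a t L d M
    hcard ha hBa hL hd
  · intro g hg x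
    refine hcls g hg _ _ ?_
    rw [hes, hes, hsm]
  · intro x
    obtain ⟨g, hg, h⟩ := htr (e.symm x)
    refine ⟨g, hg, Subtype.ext ?_⟩
    rw [hsm, he, h, hes]
  · intro i j
    rw [← hB i j]
    refine Finset.card_bij (fun x _ => e.symm x) ?_ ?_ ?_
    · intro x hx
      rw [Finset.mem_filter] at hx ⊢
      refine ⟨Finset.mem_univ _, ?_, hx.2.2⟩
      rw [hes]
      exact hx.2.1
    · intro x _ z _ h
      exact e.symm.injective h
    · intro k hk
      rw [Finset.mem_filter] at hk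
      refine ⟨e k, ?_, e.symm_apply_apply k⟩
      rw [Finset.mem_filter]
      refine ⟨Finset.mem_univ _, hk.2.1, ?_⟩
      rw [e.symm_apply_apply]
      exact hk.2.2
  · intro j
    rw [← hk j]
    refine Finset.card_bij (fun x _ => e.symm x) ?_ ?_ ?_
    · intro x hx
      rw [Finset.mem_filter] at hx ⊢
      exact ⟨Finset.mem_univ _, hx.2⟩
    · intro x _ z _ h
      exact e.symm.injective h
    · intro k hk
      rw [Finset.mem_filter] at hk
      refine ⟨e k, ?_, e.symm_apply_apply k⟩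
      rw [Finset.mem_filter]
      refine ⟨Finset.mem_univ _, ?_⟩
      rw [e.symm_apply_apply]
      exact hk.2
  · rw [e.symm_apply_apply]
    exact hc

/-- **Degrees from an orbital.** -/
theorem deg_of_orbital (y : Fin M → Y) (hinj : Function.Injective y) (i₀ : Fin M)
    (hcl : ∀ g : G, ∀ i, ∃ j, g • y i = y j) (htrG : ∀ i, ∃ g : G, g • y i₀ = y i)
    (K : Subgroup G) (hK : ∀ g ∈ K, g • y i₀ = y i₀) (cls : Fin M → Fin n) (r : Fin n → Fin M)
    (hcls : ∀ g ∈ K, ∀ i j, g • y i = y j → cls j = cls i)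
    (htr : ∀ i, ∃ g ∈ K, g • y (r (cls i)) = y i) (c₁ : Fin n)
    (hc₁ : ∀ g : G, g • y i₀ = y i₀ → ∀ k k', cls k = c₁ → g • y k = y k' → cls k' = c₁)
    (γ : Fin n → G) (hγ : ∀ i, γ i • y i₀ = y (r i)) (σ : Fin n → Fin M → Fin M)
    (hσ : ∀ i k, γ i • y k = y (σ i k)) (B : Fin n → Fin n → ℕ)
    (hB : ∀ i j, (Finset.univ.filter fun k : Fin M => cls k = c₁ ∧ cls (σ i k) = j).card = B i j)
    (kk : Fin n → ℕ) (hk : ∀ j, (Finset.univ.filter fun i => cls i = j).card = kk j) (c : Fin n) (hc : cls i₀ = c)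
    (a : Fin n → ℚ) (t : ℚ) (L : Fin n → Fin n → ℚ) (d : ℕ)
    (ha : a c = 1) (hBa : ∀ i, ∑ j, (B i j : ℚ) * a j = t * a i)
    (hL : ∀ i j, ∑ l, L i l * ((B l j : ℚ) - if l = j then t else 0) =
      (if i = j then 1 else 0) - if j = c then a i else 0)
    (hd : (d : ℚ) * ∑ j, (kk j : ℚ) * (a j * a j) = M) :
    ∃ χ : IrrCharacter G, charDegree (χ : G → ℂ) = d ∧ Ev (χ : G → ℂ) kk (fun i => (a i : ℂ)) := by
  classical
  refine deg_of_index y hinj i₀ hcl htrG K hK cls r hcls htr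
    (fun x z => decide (∃ (g : G) (k : Fin M), g • y i₀ = x ∧ cls k = c₁ ∧ g • y k = z)) ?_ B ?_ kk hk c hc a t L d ha
    hBa hL hd
  · intro g x z
    rw [decide_eq_decide]
    constructor
    · rintro ⟨h, k, h1, h2, h3⟩
      exact ⟨g⁻¹ * h, k, by rw [mul_smul, h1, inv_smul_smul], h2, by rw [mul_smul, h3, inv_smul_smul]⟩
    · rintro ⟨h, k, h1, h2, h3⟩
      exact ⟨g * h, k, by rw [mul_smul, h1], h2, by rw [mul_smul, h3]⟩
  · intro i j
    rw [← hB i j]
    symm
    have hσi : Function.Injective (σ i) := by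
      intro k k' h
      apply hinj
      have h1 : γ i • y k = γ i • y k' := by rw [hσ, hσ, h]
      exact smul_left_cancel _ h1
    refine Finset.card_bij (fun k _ => σ i k) ?_ (fun k _ k' _ h => hσi h) ?_
    · intro k hk
      rw [Finset.mem_filter] at hk ⊢
      refine ⟨Finset.mem_univ _, ?_, hk.2.2⟩
      rw [decide_eq_true_eq]
      exact ⟨γ i, k, hγ i, hk.2.1, hσ i k⟩
    · intro k' hk'
      rw [Finset.mem_filter, decide_eq_true_eq] at hk'
      obtain ⟨-, ⟨g, k, h1, h2, h3⟩, h4⟩ := hk'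
      obtain ⟨k'', hk''⟩ := hcl ((γ i)⁻¹ * g) k
      have h5 : ((γ i)⁻¹ * g) • y i₀ = y i₀ := by
        rw [mul_smul, h1, ← hγ i, inv_smul_smul]
      have h6 := hc₁ _ h5 k k'' h2 hk''
      have h7 : σ i k'' = k' := by
        apply hinj
        rw [← hσ, ← hk'', mul_smul, smul_inv_smul, h3]
      refine ⟨k'', ?_, h7⟩
      rw [Finset.mem_filter]
      refine ⟨Finset.mem_univ _, h6, ?_⟩
      rw [h7]
      exact h4

end index

section pts

open Equiv Cfsg.Agent.SporadicA.PermTab Cfsg.Agent.H678.DG.Blk Cfsg.Agent.H678.DG.Pts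

variable {G : Type u} [Group G] [Finite G] {M n : ℕ}

/-- **Degrees from a permutation representation.** -/
theorem deg_of_pts (φ : G →* Perm (Fin M)) {S : Type} (s : S → G) (A : S → ℕ → ℕ)
    (hA : ∀ x (i : Fin M), ((φ (s x) i : Fin M) : ℕ) = A x i) {KW : List (List S)} {bs : List ℕ} {pr kk : ℕ → ℕ}
    {γ : ℕ → List S} {c₁ : ℕ} {B : ℕ → ℕ → ℕ} {st : ℕ} (hcard : Nat.card G = M * st)
    (hM : 0 < M) (hM' : M < 65536) (hlab0 : lab bs 0 = 0) (hn : 0 < n) (hc₁ : c₁ < n)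
    (hBB : ∀ i < n, ∀ j < n, B i j < 65536)
    (h1 : allL (Pts.chkW A M bs) KW = true) (h2 : Pts.chkF A M bs KW pr = true) (h3 : chkK M n bs kk = true)
    (h4 : Pts.chkB A M n c₁ bs γ B = true)
    (hdiv : ∀ J : Finset (Fin n), ⟨c₁, hc₁⟩ ∈ J → (∑ j ∈ J, kk j) ∣ st → J = {⟨c₁, hc₁⟩})
    (a : Fin n → ℚ) (t : ℚ) (L : Fin n → Fin n → ℚ) (d : ℕ)
    (ha : a ⟨0, hn⟩ = 1) (hBa : ∀ i : Fin n, ∑ j : Fin n, (B i j : ℚ) * a j = t * a i)
    (hL : ∀ i j : Fin n, ∑ l : Fin n, L i l * ((B l j : ℚ) - if l = j then t else 0) =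
      (if i = j then 1 else 0) - if j = ⟨0, hn⟩ then a i else 0)
    (hd : (d : ℚ) * ∑ j : Fin n, (kk j : ℚ) * (a j * a j) = M) :
    ∃ χ : IrrCharacter G, charDegree (χ : G → ℂ) = d ∧
      Ev (χ : G → ℂ) (fun j : Fin n => kk j) (fun i => (a i : ℂ)) := by
  classical
  let act : MulAction G (Fin M) := MulAction.compHom (Fin M) φ
  have hsm : ∀ (g : G) (i : Fin M), g • i = φ g i := fun _ _ => rfl
  -- words
  have hw : ∀ (w : List S) (i : Fin M), (((w.map s).prod • i : Fin M) : ℕ) = av A w i := by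
    intro w
    induction w with
    | nil => intro i; rw [List.map_nil, List.prod_nil, one_smul, av_nil]
    | cons x w ih =>
      intro i
      rw [List.map_cons, List.prod_cons, mul_smul, hsm (s x), hA, ih, av_cons]
  unfold chkK at h3
  rw [band_eq_true, band_eq_true, allB_iff, allB_iff, allB_iff] at h3
  obtain ⟨h5a, h5b, h5c⟩ := h3
  have hlt : ∀ x < M, lab bs x < n := fun x hx => Nat.blt_eq ▸ h5a x hx
  have hrt : ∀ j < n, rt bs j < M := fun j hj => Nat.blt_eq ▸ h5b j hj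
  let z : Fin M := ⟨0, hM⟩
  let K : Subgroup G :=
    { carrier := {g | g • z = z ∧ ∀ x : Fin M, lab bs (g • x : Fin M) = lab bs x}
      one_mem' := ⟨one_smul _ _, fun x => by rw [one_smul]⟩
      mul_mem' := by
        rintro a b ⟨h1, h2⟩ ⟨h3, h4⟩
        exact ⟨by rw [mul_smul, h3, h1], fun x => by rw [mul_smul, h2, h4]⟩
      inv_mem' := by
        rintro a ⟨h1, h2⟩
        refine ⟨by rw [inv_smul_eq_iff, h1], fun x => ?_⟩
        have h3 := h2 (a⁻¹ • x)
        rw [smul_inv_smul] at h3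
        exact h3.symm }
  have hK : ∀ g, g ∈ K ↔ g • z = z ∧ ∀ x : Fin M, lab bs (g • x : Fin M) = lab bs x := fun _ => Iff.rfl
  have hKW : ∀ w ∈ KW, (w.map s).prod ∈ K := by
    intro w hwK
    have h7 := (allL_iff _ _).1 h1 w hwK
    unfold Pts.chkW at h7
    rw [band_eq_true] at h7
    rw [hK]
    refine ⟨Fin.ext ?_, fun x => ?_⟩
    · rw [hw]
      exact Nat.eq_of_beq_eq_true h7.1
    · rw [hw]
      exact Nat.eq_of_beq_eq_true ((allB_iff _ _).1 h7.2 x x.2)
  unfold Pts.chkF at h2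
  rw [allB_iff] at h2
  have hreach : ∀ x, ∀ hx : x < M, ∃ g ∈ K, g • (⟨rt bs (lab bs x), hrt _ (hlt x hx)⟩ : Fin M) = ⟨x, hx⟩ := by
    intro x
    induction x using Nat.strong_induction_on with
    | _ x ih =>
      intro hx
      have h7 := h2 x hx
      rw [bor_iff, forceB_eq, band_eq_true, band_eq_true, anyB_iff] at h7
      rcases h7 with h7 | ⟨h7, h8, w, hwK, h9⟩
      · refine ⟨1, K.one_mem, ?_⟩
        rw [one_smul]
        exact Fin.ext (Nat.eq_of_beq_eq_true h7)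
      · have h10 : pr x < x := Nat.blt_eq ▸ h7
        obtain ⟨g, hg, hgx⟩ := ih _ h10 (h10.trans hx)
        refine ⟨(w.map s).prod * g, K.mul_mem (hKW w hwK) hg, ?_⟩
        have h11 : (⟨rt bs (lab bs x), hrt _ (hlt x hx)⟩ : Fin M) =
            ⟨rt bs (lab bs (pr x)), hrt _ (hlt _ (h10.trans hx))⟩ :=
          Fin.ext (congrArg (rt bs) (Nat.eq_of_beq_eq_true h8).symm)
        rw [h11, mul_smul, hgx]
        refine Fin.ext ?_
        rw [hw]
        exact Nat.eq_of_beq_eq_true h9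
  unfold Pts.chkB at h4
  rw [allB_iff] at h4
  have hγ : ∀ i (hi : i < n), ((γ i).map s).prod • z = ⟨rt bs i, hrt i hi⟩ := by
    intro i hi
    have h7 := h4 i hi
    rw [band_eq_true] at h7
    refine Fin.ext ?_
    rw [hw]
    exact Nat.eq_of_beq_eq_true h7.1
  have htrG : ∀ i : Fin M, ∃ g : G, g • z = i := by
    intro i
    obtain ⟨g, -, hg⟩ := hreach i i.2
    exact ⟨g * ((γ (lab bs i)).map s).prod, by rw [mul_smul, hγ _ (hlt i i.2), hg]⟩
  have hst : Nat.card (MulAction.stabilizer G z) = st := by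
    have h7 : Nat.card (MulAction.orbit G z) = M := by
      have h8 : MulAction.orbit G z = Set.univ := by
        ext i
        exact ⟨fun _ => trivial, fun _ => htrG i⟩
      rw [h8, Nat.card_coe_set_eq, Set.ncard_univ, Nat.card_eq_fintype_card, Fintype.card_fin]
    have h9 : Nat.card (MulAction.orbit G z) * Nat.card (MulAction.stabilizer G z) = Nat.card G := by
      rw [Nat.card_congr (MulAction.orbitEquivQuotientStabilizer G z), ← Subgroup.index_eq_card, mul_comm,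
        Subgroup.card_mul_index]
    rw [h7, hcard] at h9
    exact Nat.eq_of_mul_eq_mul_left hM h9
  have hkk : ∀ j : Fin n, (Finset.univ.filter fun i : Fin M => (⟨lab bs i, hlt i i.2⟩ : Fin n) = j).card = kk j := by
    intro j
    have h7 := (cntB_iff _ _ _).1 (h5c j j.2)
    rw [← h7, ← card_fin]
    congr 1
    ext i
    simp only [Finset.mem_filter, Finset.mem_univ, true_and, Fin.ext_iff]
    exact ⟨fun h => by rw [h]; exact Nat.beq_refl _, Nat.eq_of_beq_eq_true⟩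
  have htr : ∀ i : Fin M, ∃ g ∈ K, g • (⟨rt bs (lab bs i), hrt _ (hlt i i.2)⟩ : Fin M) = i := fun i => hreach i i.2
  refine deg_of_orbital (G := G) (Y := Fin M) (M := M) (n := n) (fun x => x) (fun _ _ h => h) z
    (fun g i => ⟨g • i, rfl⟩) htrG K (fun g hg => ((hK g).1 hg).1) (fun x => ⟨lab bs x, hlt x x.2⟩)
    (fun j => ⟨rt bs j, hrt j j.2⟩) ?_ htr ⟨c₁, hc₁⟩ ?_ (fun i => ((γ i).map s).prod) (fun i => hγ i i.2)
    (fun i k => ((γ i).map s).prod • k) (fun i k => rfl) (fun i j => B i j) ?_ (fun j => kk j) hkk ⟨0, hn⟩ ?_ a t L d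
    ha hBa hL hd
  · intro g hg i j hij
    rw [← hij]
    exact Fin.ext (((hK g).1 hg).2 i)
  · exact Orbital.class_invariant (G := G) (Y := Fin M) (fun x => x) (fun _ _ h => h) z (fun g i => ⟨g • i, rfl⟩) K
      (fun g hg => ((hK g).1 hg).1) (fun x => ⟨lab bs x, hlt x x.2⟩) (fun j => ⟨rt bs j, hrt j j.2⟩) htr ⟨c₁, hc₁⟩ st hst
      (fun j => kk j) hkk hdiv
  · intro i j
    have h7 := h4 i i.2
    rw [band_eq_true] at h7
    rw [← card_of_pk hM' (fun j hj => hBB i i.2 j hj) (fun k hk _ => ?_) h7.2 j j.2]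
    · refine Finset.card_bij (fun k _ => (k : ℕ)) ?_ (fun k _ k' _ h => Fin.ext h) ?_
      · intro k hk
        rw [Finset.mem_filter] at hk ⊢
        refine ⟨Finset.mem_range.2 k.2, ?_, ?_⟩
        · have h8 : lab bs k = c₁ := congrArg Fin.val hk.2.1
          rw [h8]
          exact Nat.beq_refl _
        · have h8 := congrArg Fin.val hk.2.2
          have h9 : lab bs (((((γ i).map s).prod • k : Fin M)) : ℕ) = j := h8
          rwa [hw] at h9
      · intro k hk
        rw [Finset.mem_filter, Finset.mem_range] at hk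
        refine ⟨⟨k, hk.1⟩, ?_, rfl⟩
        rw [Finset.mem_filter]
        refine ⟨Finset.mem_univ _, Fin.ext (Nat.eq_of_beq_eq_true hk.2.1), Fin.ext ?_⟩
        show lab bs (((((γ i).map s).prod • (⟨k, hk.1⟩ : Fin M) : Fin M)) : ℕ) = j
        rw [hw]
        exact hk.2.2
    · have h8 := hw (γ i) ⟨k, hk⟩
      rw [← h8]
      exact hlt _ (Fin.is_lt _)
  · exact Fin.ext hlab0

end pts

end Cfsg.Agent.H456.LD.OmC
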