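import Cfsg.Agent.H289.Eight.FiQDeg
import Cfsg.Agent.H456.LD.OmC

/-!
# Fi22: the eigenvalues of a class of 3510 elements on the characters of degrees 3080 and 13650 (helper456)
-/

set_option autoImplicit false
set_option maxRecDepth 100000

namespace Cfsg.Agent.H456.LD.Fi22Om

open Cfsg Equiv Cfsg.Spor.Fi22 Cfsg.Agent.H678.DG Cfsg.Agent.H678.DG.Blk Cfsg.Agent.H678.DG.Pts
  Cfsg.Agent.H289.Eight.FiQRep Cfsg.Agent.H289.Eight.PRep Cfsg.Agent.SporadicA.PermTab Cfsg.Agent.H289.Eight.FiQAct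
  Cfsg.Agent.H289.Eight.FiQDeg

open Cfsg.Agent.H456.LD.OmC (Ev)

/-- The degree for an eigenvalue. -/
theorem deg (a : Fin 4 → ℚ) (t : ℚ) (L : Fin 4 → Fin 4 → ℚ) (d : ℕ)
    (ha : a 0 = 1) (hBa : ∀ i : Fin 4, ∑ j : Fin 4, (B i j : ℚ) * a j = t * a i)
    (hL : ∀ i j : Fin 4, ∑ l : Fin 4, L i l * ((B l j : ℚ) - if l = j then t else 0) =
      (if i = j then 1 else 0) - if j = 0 then a i else 0)
    (hd : (d : ℚ) * ∑ j : Fin 4, (kk j : ℚ) * (a j * a j) = (61776 : ℕ)) :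
    ∃ χ : IrrCharacter Cfsg.Spor.Fi22, charDegree (χ : Cfsg.Spor.Fi22 → ℂ) = d ∧
      Ev (χ : Cfsg.Spor.Fi22 → ℂ) (fun j : Fin 4 => kk j) (fun i => (a i : ℂ)) :=
  OmC.deg_of_pts phi (fun x => PresentedGroup.of x) A rep_of (KW := KW) (bs := bs) (pr := pr) (kk := kk) (γ := gam)
    (c₁ := 3) (B := B) (st := 1045094400) (by rw [card_fi22]) (by norm_num) (by norm_num) (by decide +kernel) (by norm_num)
    (by norm_num) (by decide +kernel) c1 c2 c3 Cfsg.Agent.H289.Eight.FiQB.c4 hdiv a t L d ha hBa hL hd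

theorem ev_13650 : ∃ χ : IrrCharacter Cfsg.Spor.Fi22, charDegree (χ : Cfsg.Spor.Fi22 → ℂ) = 13650 ∧
    Ev (χ : Cfsg.Spor.Fi22 → ℂ) (fun j : Fin 4 => kk j) (fun i => ((![1, -1/175, 1/100, -1/175] : Fin 4 → ℚ) i : ℂ)) :=
  deg ![1, -1/175, 1/100, -1/175] (-216) ![![0, 0, 0, 0],
    ![1/37800, 1/108, -1/108, 0],
    ![-1/21600, -1/1536, 5/6912, 0],
    ![1/37800, 0, 0, 0]] 13650
    (by decide +kernel) (by decide +kernel) (by decide +kernel) (by decide +kernel)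

theorem ev_3080 : ∃ χ : IrrCharacter Cfsg.Spor.Fi22, charDegree (χ : Cfsg.Spor.Fi22 → ℂ) = 3080 ∧
    Ev (χ : Cfsg.Spor.Fi22 → ℂ) (fun j : Fin 4 => kk j) (fun i => ((![1, 19/175, -1/350, -1/350] : Fin 4 → ℚ) i : ℂ)) :=
  deg ![1, 19/175, -1/350, -1/350] (-108) ![![0, 0, 0, 0],
    ![-19/18900, -127/972, 32/243, 0],
    ![1/37800, 1/108, -1/108, 0],
    ![1/37800, 0, 0, 0]] 3080
    (by decide +kernel) (by decide +kernel) (by decide +kernel) (by decide +kernel)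

theorem kk0 : kk 0 = 1 := by decide +kernel
theorem kk1 : kk 1 = 1575 := by decide +kernel
theorem kk2 : kk 2 = 22400 := by decide +kernel
theorem kk3 : kk 3 = 37800 := by decide +kernel

/-- The possible eigenvalues. -/
theorem vals {χ : Cfsg.Spor.Fi22 → ℂ} {a : Fin 4 → ℚ} (h : Ev χ (fun j : Fin 4 => kk j) (fun i => (a i : ℂ)))
    {T : Finset Cfsg.Spor.Fi22} (hT : Cfsg.Agent.H618.LD.Tw.Cl T) (hc : T.card = 3510) (ha : a 0 = 1) :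
    Cfsg.Agent.H618.LD.Tw.om T χ = 3510 ∨ Cfsg.Agent.H618.LD.Tw.om T χ = 1935 + 1575 * (a 1 : ℂ) ∨
      Cfsg.Agent.H618.LD.Tw.om T χ = 360 + 3150 * (a 1 : ℂ) := by
  obtain ⟨c, h1, h2⟩ := h T hT
  simp only [Fin.sum_univ_four] at h1 h2
  have e0 : kk ((0 : Fin 4) : ℕ) = 1 := kk0
  have e1 : kk ((1 : Fin 4) : ℕ) = 1575 := kk1
  have e2 : kk ((2 : Fin 4) : ℕ) = 22400 := kk2
  have e3 : kk ((3 : Fin 4) : ℕ) = 37800 := kk3
  rw [e0, e1, e2, e3, hc] at h1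
  rw [e0, e1, e2, e3, ha] at h2
  have c2 : c 2 = 0 := by omega
  have c3 : c 3 = 0 := by omega
  rw [c2, c3] at h2
  have h3 : (c 0 = 3510 ∧ c 1 = 0) ∨ (c 0 = 1935 ∧ c 1 = 1) ∨ (c 0 = 360 ∧ c 1 = 2) := by omega
  rcases h3 with ⟨h4, h5⟩ | ⟨h4, h5⟩ | ⟨h4, h5⟩
  · left; rw [h2, h4, h5]; push_cast; ring
  · right; left; rw [h2, h4, h5]; push_cast; ring
  · right; right; rw [h2, h4, h5]; push_cast; ring

/-- **The eigenvalues on the characters of degrees 3080 and 13650.** -/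
theorem exists_om {T : Finset Cfsg.Spor.Fi22} (hT : Cfsg.Agent.H618.LD.Tw.Cl T) (hc : T.card = 3510) :
    (∃ χ : IrrCharacter Cfsg.Spor.Fi22, charDegree (χ : Cfsg.Spor.Fi22 → ℂ) = 3080 ∧
      (Cfsg.Agent.H618.LD.Tw.om T χ = 3510 ∨ Cfsg.Agent.H618.LD.Tw.om T χ = 2106 ∨
        Cfsg.Agent.H618.LD.Tw.om T χ = 702)) ∧
    (∃ χ : IrrCharacter Cfsg.Spor.Fi22, charDegree (χ : Cfsg.Spor.Fi22 → ℂ) = 13650 ∧
      (Cfsg.Agent.H618.LD.Tw.om T χ = 3510 ∨ Cfsg.Agent.H618.LD.Tw.om T χ = 1926 ∨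
        Cfsg.Agent.H618.LD.Tw.om T χ = 342)) := by
  constructor
  · obtain ⟨χ, h1, h2⟩ := ev_3080
    refine ⟨χ, h1, ?_⟩
    have h3 := vals h2 hT hc rfl
    have h4 : (((![1, 19/175, -1/350, -1/350] : Fin 4 → ℚ) 1 : ℚ) : ℂ) = 19 / 175 := by
      show ((19 / 175 : ℚ) : ℂ) = 19 / 175
      push_cast; ring
    rw [h4] at h3
    norm_num at h3
    exact h3
  · obtain ⟨χ, h1, h2⟩ := ev_13650
    refine ⟨χ, h1, ?_⟩
    have h3 := vals h2 hT hc rfl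
    have h4 : (((![1, -1/175, 1/100, -1/175] : Fin 4 → ℚ) 1 : ℚ) : ℂ) = -1 / 175 := by
      show ((-1 / 175 : ℚ) : ℂ) = -1 / 175
      push_cast; ring
    rw [h4] at h3
    norm_num at h3
    exact h3

end Cfsg.Agent.H456.LD.Fi22Om
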