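import Cfsg.Agent.H954.LD.Row
import Cfsg.Agent.H794.MathieuPP
import Cfsg.Agent.H681.DegBasic
import Cfsg.Agent.H548.Crit
import Cfsg.Agent.S2060

/-!
# S4910, the row `M₁₁` (helper456)
-/

set_option autoImplicit false

namespace Cfsg.Agent.H456.LD

open Cfsg Cfsg.Agent.H954.LD

universe u

theorem row_M11 {S : Type u} [Group S] [Finite S] [IsSimpleGroup S] (hna : ¬ IsMulCommutative S) (h : Spor.IsoM11 S) :
    Cfsg.Agent.H954.LD.CopRow S := by
  obtain ⟨e⟩ := h
  have h1 : Nat.card (Out S) = 1 := (Cfsg.Agent.H548.Crit.card_out_congr e).trans Cfsg.Agent.S2060.result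
  obtain ⟨α, hα⟩ := Cfsg.Agent.H681.DegBasic.charDegrees_comp e.toMonoidHom e.surjective
    Cfsg.Agent.H794.MathieuPP.mem_eleven_M11
  exact copRow_one_pp hna h1 (α := α) (by
    rw [hα]
    exact (by norm_num : Nat.Prime 11).isPrimePow)

end Cfsg.Agent.H456.LD
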